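import Mathlib.LinearAlgebra.Projectivization.Basic
import Mathlib.LinearAlgebra.Dual.Lemmas
import Mathlib.RingTheory.MvPolynomial.Homogeneous
import Mathlib.LinearAlgebra.FiniteDimensional.Lemmas
import Mathlib.GroupTheory.CosetCover

/-!
# Finite point sets with the Cayley–Bacharach property
-/

set_option autoImplicit false

universe u

open MvPolynomial Module

namespace GrothLib.CBPts25

variable {k : Type u} [Field k] {d : ℕ}

/-- The linear form of a functional. -/
noncomputable def linForm (φ : (Fin d → k) →ₗ[k] k) : MvPolynomial (Fin d) k :=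
  ∑ i, C (φ (Pi.single i 1)) * X i

theorem isHomogeneous_linForm (φ : (Fin d → k) →ₗ[k] k) : (linForm φ).IsHomogeneous 1 :=
  IsHomogeneous.sum _ _ _ fun i _ => isHomogeneous_C_mul_X _ i

theorem eval_linForm (φ : (Fin d → k) →ₗ[k] k) (v : Fin d → k) : eval v (linForm φ) = φ v := by
  rw [LinearMap.pi_apply_eq_sum_univ φ v]
  simp only [linForm, map_sum, map_mul, eval_C, eval_X, smul_eq_mul]
  refine Finset.sum_congr rfl fun i _ => ?_
  rw [mul_comm]
  congr 2
  ext j
  simp [Pi.single_apply, eq_comm]

theorem exists_linForm {W : Submodule k (Fin d → k)} {v : Fin d → k} (hv : v ∉ W) :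
    ∃ p : MvPolynomial (Fin d) k, p.IsHomogeneous 1 ∧ (∀ w ∈ W, eval w p = 0) ∧ eval v p ≠ 0 := by
  obtain ⟨φ, hφv, hφW⟩ := Submodule.exists_dual_map_eq_bot_of_notMem hv inferInstance
  refine ⟨linForm φ, isHomogeneous_linForm φ, fun w hw => ?_, by rwa [eval_linForm]⟩
  rw [eval_linForm]
  have : φ w ∈ W.map φ := Submodule.mem_map_of_mem hw
  rw [hφW] at this
  exact (Submodule.mem_bot k).1 this

/-- The line through two points. -/
def line (a b : Fin d → k) : Submodule k (Fin d → k) := Submodule.span k {a, b}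

theorem finrank_line (P Q : Projectivization k (Fin d → k)) (h : P ≠ Q) :
    finrank k (line P.rep Q.rep) = 2 := by
  have hl := Projectivization.linearIndependent_pair_iff_ne.2 h
  have h2 := finrank_span_eq_card hl
  rw [show Set.range ![P.rep, Q.rep] = {P.rep, Q.rep} by simp [Set.pair_comm], Fintype.card_fin] at h2
  exact h2

theorem eq_of_line (W : Submodule k (Fin d → k)) (hW : finrank k W = 2)
    {P Q : Projectivization k (Fin d → k)} (h : P ≠ Q) (hP : P.rep ∈ W) (hQ : Q.rep ∈ W) :
    line P.rep Q.rep = W :=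
  Submodule.eq_of_le_of_finrank_eq
    (Submodule.span_le.2 (Set.insert_subset_iff.2 ⟨hP, Set.singleton_subset_iff.2 hQ⟩))
    (by rw [finrank_line P Q h, hW])

/-- A form of degree `t` vanishing at `2 t` points but not at a further one. -/
theorem exists_separating (z : Projectivization k (Fin d → k)) : ∀ (t : ℕ)
    (S : Finset (Projectivization k (Fin d → k))), z ∉ S → S.card ≤ 2 * t →
    (∀ w ∈ S, (open scoped Classical in (S.filter fun x => line z.rep x.rep = line z.rep w.rep).card) ≤ t) →
    ∃ p : MvPolynomial (Fin d) k, p.IsHomogeneous t ∧ (∀ x ∈ S, eval x.rep p = 0) ∧ eval z.rep p ≠ 0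
  | 0, S, _, hS, _ => ⟨1, isHomogeneous_one _ _, fun x hx => by
      have : S = ∅ := Finset.card_eq_zero.1 (by omega)
      simp [this] at hx, by simp⟩
  | t + 1, S, hz, hS, hcl => by
    classical
    have hz0 : z.rep ∉ (⊥ : Submodule k (Fin d → k)) := by simpa using z.rep_nonzero
    by_cases hne : S.Nonempty
    swap
    · obtain ⟨p, hp, -, hpz⟩ := exists_linForm hz0
      refine ⟨p ^ (t + 1), ?_, fun x hx => absurd ⟨x, hx⟩ hne, by rw [map_pow]; exact pow_ne_zero _ hpz⟩
      simpa using hp.pow (t + 1)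
    let cl : Projectivization k (Fin d → k) → Submodule k (Fin d → k) := fun x => line z.rep x.rep
    let N : Projectivization k (Fin d → k) → ℕ := fun w => (S.filter fun x => cl x = cl w).card
    obtain ⟨a, ha, hmax⟩ := Finset.exists_max_image S N hne
    suffices H : ∃ (T : Finset (Projectivization k (Fin d → k))) (p : MvPolynomial (Fin d) k),
        p.IsHomogeneous 1 ∧ (∀ x ∈ S, x ∉ T → eval x.rep p = 0) ∧ eval z.rep p ≠ 0 ∧ T ⊆ S ∧
          T.card ≤ 2 * t ∧ ∀ w ∈ T, (T.filter fun x => cl x = cl w).card ≤ t by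
      obtain ⟨T, p, hp, hpx, hpz, hTS, hT, hclT⟩ := H
      obtain ⟨q, hq, hqx, hqz⟩ := exists_separating z t T (fun h => hz (hTS h)) hT
        (fun w hw => by convert hclT w hw)
      refine ⟨p * q, by simpa [add_comm] using hp.mul hq, fun x hx => ?_, ?_⟩
      · rw [map_mul]
        by_cases hxT : x ∈ T
        · rw [hqx x hxT, mul_zero]
        · rw [hpx x hx hxT, zero_mul]
      · rw [map_mul]; exact mul_ne_zero hpz hqz
    have hza : z ≠ a := fun h => hz (h ▸ ha)
    have hN : ∀ w ∈ S, N w ≤ t + 1 := fun w hw => by convert hcl w hw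
    by_cases hall : ∀ x ∈ S, cl x = cl a
    · have hSa : N a = S.card := congrArg Finset.card (Finset.filter_true_of_mem hall)
      have hcard : (S.erase a).card ≤ t := by
        rw [Finset.card_erase_of_mem ha]
        have := hN a ha
        omega
      obtain ⟨p, hp, hpa, hpz⟩ := exists_linForm (W := (k ∙ a.rep)) (v := z.rep) (fun hmem => by
        obtain ⟨c, hc⟩ := Submodule.mem_span_singleton.1 hmem
        refine hza ?_
        rw [← z.mk_rep, ← a.mk_rep, Projectivization.mk_eq_mk_iff']
        exact ⟨c, hc⟩)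
      refine ⟨S.erase a, p, hp, fun x hx hxT => ?_, hpz, Finset.erase_subset _ _, by omega,
        fun w _ => (Finset.card_filter_le _ _).trans hcard⟩
      rw [show x = a by by_contra h; exact hxT (Finset.mem_erase.2 ⟨h, hx⟩)]
      exact hpa _ (Submodule.mem_span_singleton_self _)
    push Not at hall
    obtain ⟨b₀, hb₀, hb₀'⟩ := hall
    obtain ⟨b, hb, hbmax⟩ := Finset.exists_max_image (S.filter fun x => cl x ≠ cl a) N
      ⟨b₀, Finset.mem_filter.2 ⟨hb₀, hb₀'⟩⟩
    obtain ⟨hbS, hba⟩ := Finset.mem_filter.1 hb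
    have hzb : z ≠ b := fun h => hz (h ▸ hbS)
    have hab : a ≠ b := fun h => hba (h ▸ rfl)
    obtain ⟨p, hp, hpv, hpz⟩ := exists_linForm (W := line a.rep b.rep) (v := z.rep) (fun hmem => by
      refine hba ?_
      have hW := finrank_line a b hab
      exact (eq_of_line _ hW hzb hmem (Submodule.subset_span (by simp))).trans
        (eq_of_line _ hW hza hmem (Submodule.subset_span (by simp))).symm)
    refine ⟨(S.erase a).erase b, p, hp, fun x hx hxT => ?_, hpz,
      (Finset.erase_subset _ _).trans (Finset.erase_subset _ _), ?_, fun w hw => ?_⟩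
    · by_cases h1 : x = a
      · exact h1 ▸ hpv _ (Submodule.subset_span (by simp))
      · by_cases h2 : x = b
        · exact h2 ▸ hpv _ (Submodule.subset_span (by simp))
        · exact absurd (Finset.mem_erase.2 ⟨h2, Finset.mem_erase.2 ⟨h1, hx⟩⟩) hxT
    · rw [Finset.card_erase_of_mem (Finset.mem_erase.2 ⟨hab.symm, hbS⟩), Finset.card_erase_of_mem ha]
      omega
    · have hwS : w ∈ S := Finset.mem_of_mem_erase (Finset.mem_of_mem_erase hw)
      let Cw := S.filter fun x => cl x = cl w
      have hsub : (((S.erase a).erase b).filter fun x => cl x = cl w) ⊆ (Cw.erase a).erase b := by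
        intro x hx
        simp only [Finset.mem_filter, Finset.mem_erase, Cw] at hx ⊢
        tauto
      refine (Finset.card_le_card hsub).trans ?_
      have hCw : Cw.card ≤ t + 1 := hN w hwS
      by_cases hwa : cl a = cl w
      · have : a ∈ Cw := Finset.mem_filter.2 ⟨ha, hwa⟩
        have h2 := Finset.card_erase_le (a := b) (s := Cw.erase a)
        rw [Finset.card_erase_of_mem this] at h2
        omega
      by_cases hwb : cl b = cl w
      · have : b ∈ Cw.erase a := Finset.mem_erase.2 ⟨hab.symm, Finset.mem_filter.2 ⟨hbS, hwb⟩⟩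
        rw [Finset.card_erase_of_mem this]
        have := Finset.card_erase_le (a := a) (s := Cw)
        omega
      refine (Finset.card_erase_le.trans Finset.card_erase_le).trans ?_
      by_contra hlt
      have h1 : N w ≤ N b := hbmax w (Finset.mem_filter.2 ⟨hwS, fun h => hwa h.symm⟩)
      have h2 : N w ≤ N a := hmax w hwS
      have hd : N a + N b + N w ≤ S.card := by
        have e1 : Disjoint (S.filter fun x => cl x = cl a) (S.filter fun x => cl x = cl b) :=
          Finset.disjoint_filter.2 fun x _ h h' => hba (h'.symm.trans h)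
        have e2 : Disjoint ((S.filter fun x => cl x = cl a) ∪ (S.filter fun x => cl x = cl b)) Cw :=
          Finset.disjoint_union_left.2 ⟨Finset.disjoint_filter.2 fun x _ h h' => hwa (h.symm.trans h'),
            Finset.disjoint_filter.2 fun x _ h h' => hwb (h.symm.trans h')⟩
        change (S.filter fun x => cl x = cl a).card + (S.filter fun x => cl x = cl b).card + Cw.card ≤ _
        rw [← Finset.card_union_of_disjoint e1, ← Finset.card_union_of_disjoint e2]
        exact Finset.card_le_card (Finset.union_subset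
          (Finset.union_subset (Finset.filter_subset _ _) (Finset.filter_subset _ _)) (Finset.filter_subset _ _))
      have hw' : N w = Cw.card := rfl
      omega

variable (Z : Finset (Projectivization k (Fin d → k)))

/-- Evaluation of forms at the points. -/
noncomputable abbrev evalAt (m : ℕ) : homogeneousSubmodule (Fin d) k m →ₗ[k] (↥Z → k) :=
  (LinearMap.pi fun z : ↥Z => (MvPolynomial.aeval (R := k) z.1.rep).toLinearMap) ∘ₗ
    (MvPolynomial.homogeneousSubmodule (Fin d) k m).subtype

theorem evalAt_apply (m : ℕ) (p : homogeneousSubmodule (Fin d) k m) (z : ↥Z) :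
    evalAt Z m p z = eval z.1.rep p.1 := by
  change MvPolynomial.aeval z.1.rep p.1 = _
  rw [aeval_eq_eval]

theorem finrank_le [Infinite k] (n : ℕ)
    (hCB : ∀ z ∈ Z, ∀ p : MvPolynomial (Fin d) k, p.IsHomogeneous n →
      (∀ z' ∈ Z, z' ≠ z → eval z'.rep p = 0) → eval z.rep p = 0)
    (m : ℕ) (hm : m ≤ n) :
    finrank k (LinearMap.range (evalAt Z m)) + finrank k (LinearMap.range (evalAt Z (n - m))) ≤ Z.card := by
  classical
  let E := fun j => LinearMap.range (evalAt Z j)
  let A : Submodule k (Module.Dual k (↥Z → k)) := (E n).dualAnnihilator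
  have hz : ∀ z : ↥Z, ∃ φ ∈ A, φ (Pi.single z 1) ≠ 0 := fun z => by
    have hnot : (Pi.single z 1 : ↥Z → k) ∉ E n := by
      rintro ⟨p, hp⟩
      refine absurd (hCB z.1 z.2 p.1 p.2 fun z' hz' hne => ?_) ?_
      · rw [← evalAt_apply Z n p ⟨z', hz'⟩, hp, Pi.single_eq_of_ne]
        exact fun h => hne (congrArg Subtype.val h)
      · rw [← evalAt_apply Z n p z, hp, Pi.single_eq_same]
        exact one_ne_zero
    obtain ⟨φ, hφ, hφE⟩ := Submodule.exists_dual_map_eq_bot_of_notMem hnot inferInstance
    refine ⟨φ, (Submodule.mem_dualAnnihilator φ).2 fun w hw => ?_, hφ⟩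
    have : φ w ∈ (E n).map φ := Submodule.mem_map_of_mem hw
    rw [hφE] at this
    exact (Submodule.mem_bot k).1 this
  obtain ⟨φ, hφA, hφ⟩ : ∃ φ ∈ A, ∀ z : ↥Z, φ (Pi.single z 1) ≠ 0 := by
    let K : ↥Z → Submodule k A := fun z =>
      LinearMap.ker ((LinearMap.applyₗ (Pi.single z 1 : ↥Z → k)).comp A.subtype)
    have hK : (⊤ : Submodule k A) ∉ Finset.univ.image K := by
      intro h
      obtain ⟨z, -, hzK⟩ := Finset.mem_image.1 h
      obtain ⟨φ, hφA, hφ⟩ := hz z
      exact hφ (show (⟨φ, hφA⟩ : A) ∈ K z from hzK ▸ trivial)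
    obtain ⟨φ, hφ⟩ := (Set.ne_univ_iff_exists_notMem _).1
      (Subspace.biUnion_ne_univ_of_top_notMem (k := k) (E := A) (s := (Finset.univ.image K : Finset (Subspace k A))) hK)
    exact ⟨φ.1, φ.2, fun z hz0 => hφ (Set.mem_iUnion₂.2
      ⟨K z, Finset.mem_image_of_mem K (Finset.mem_univ z), hz0⟩)⟩
  let Φ : E m →ₗ[k] Module.Dual k (↥Z → k) :=
    ((LinearMap.mul k (↥Z → k)).compr₂ φ).comp (E m).subtype
  have hΦ : ∀ g : E m, Φ g ∈ (E (n - m)).dualAnnihilator := by
    rintro ⟨_, p, rfl⟩
    refine (Submodule.mem_dualAnnihilator _).2 ?_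
    rintro _ ⟨q, rfl⟩
    refine (Submodule.mem_dualAnnihilator φ).1 hφA _ ⟨⟨p.1 * q.1, ?_⟩, ?_⟩
    · have := IsHomogeneous.mul p.2 q.2
      rwa [Nat.add_sub_cancel' hm] at this
    · funext z
      rw [evalAt_apply]
      change _ = evalAt Z m p z * evalAt Z (n - m) q z
      rw [evalAt_apply, evalAt_apply, map_mul]
  have hinj : Function.Injective (Φ.codRestrict _ hΦ) := by
    rw [injective_iff_map_eq_zero]
    intro g hg
    apply Subtype.ext
    funext z
    have h1 := LinearMap.congr_fun (congrArg Subtype.val hg) (Pi.single z 1)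
    change φ (g.1 * Pi.single z 1) = 0 at h1
    rw [show g.1 * Pi.single z 1 = g.1 z • (Pi.single z 1 : ↥Z → k) from by
      funext y
      by_cases h : y = z
      · subst h; simp
      · simp [Pi.single_eq_of_ne h], map_smul, smul_eq_mul] at h1
    exact (mul_eq_zero.1 h1).resolve_right (hφ z)
  have h1 := LinearMap.finrank_le_finrank_of_injective hinj
  have h2 := Subspace.finrank_add_finrank_dualAnnihilator_eq (E (n - m))
  rw [Module.finrank_fintype_fun_eq_card, Fintype.card_coe] at h2
  exact (add_le_add_left h1 _ |>.trans_eq (by rw [add_comm]; exact h2)).trans' le_rfl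

end GrothLib.CBPts25

namespace GrothLib.CBPts25

open MvPolynomial Module

variable {k : Type u} [Field k] {d : ℕ} (Z : Finset (Projectivization k (Fin d → k))) (n : ℕ)
  (hCB : ∀ z ∈ Z, ∀ p : MvPolynomial (Fin d) k, p.IsHomogeneous n →
    (∀ z' ∈ Z, z' ≠ z → eval z'.rep p = 0) → eval z.rep p = 0)

include hCB

theorem exists_big_line {z : Projectivization k (Fin d → k)} (hz : z ∈ Z) (hcard : Z.card ≤ 2 * n + 1) :
    ∃ W : Submodule k (Fin d → k), finrank k W = 2 ∧ z.rep ∈ W ∧
      (open scoped Classical in (Z.filter fun x => x.rep ∈ W).card) ≥ n + 2 := by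
  classical
  by_contra h
  push Not at h
  obtain ⟨p, hp, hpx, hpz⟩ := exists_separating z n (Z.erase z) (Finset.notMem_erase z Z)
    (by rw [Finset.card_erase_of_mem hz]; omega) (fun w hw => by
      obtain ⟨hwz, hwZ⟩ := Finset.mem_erase.1 hw
      let W := line z.rep w.rep
      have hlt := h W (finrank_line z w hwz.symm) (Submodule.subset_span (by simp))
      have hsub : ((Z.erase z).filter fun x => line z.rep x.rep = W) ⊆
          (Z.filter fun x => x.rep ∈ W).erase z := by
        intro x hx
        obtain ⟨hx1, hx2⟩ := Finset.mem_filter.1 hx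
        obtain ⟨hxz, hxZ⟩ := Finset.mem_erase.1 hx1
        exact Finset.mem_erase.2 ⟨hxz, Finset.mem_filter.2
          ⟨hxZ, hx2 ▸ Submodule.subset_span (by simp)⟩⟩
      have h1 := Finset.card_le_card hsub
      have hzW : z.rep ∈ W := Submodule.subset_span (by simp)
      rw [Finset.card_erase_of_mem (Finset.mem_filter.2 ⟨hz, hzW⟩)] at h1
      change ((Z.erase z).filter fun x => line z.rep x.rep = W).card ≤ n
      omega)
  exact hpz (hCB z hz p hp fun z' hz' hne => hpx z' (Finset.mem_erase.2 ⟨hne, hz'⟩))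

theorem card_ge (hZ : Z.Nonempty) : n + 2 ≤ Z.card := by
  classical
  by_contra h
  obtain ⟨z, hz⟩ := hZ
  obtain ⟨W, -, -, hW⟩ := exists_big_line Z n hCB hz (by omega)
  have := Finset.card_le_card (Finset.filter_subset (fun x => x.rep ∈ W) Z)
  omega

theorem exists_line (hcard : Z.card ≤ 2 * n + 1) (hZ : Z.Nonempty) :
    ∃ W : Submodule k (Fin d → k), finrank k W = 2 ∧ ∀ z ∈ Z, z.submodule ≤ W := by
  classical
  obtain ⟨z₀, hz₀⟩ := hZ
  obtain ⟨W, hW, -, hWc⟩ := exists_big_line Z n hCB hz₀ hcard
  refine ⟨W, hW, fun z hz => ?_⟩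
  rw [Projectivization.submodule_eq, Submodule.span_singleton_le_iff_mem]
  by_contra hzW
  obtain ⟨W', hW', hzW', hW'c⟩ := exists_big_line Z n hCB hz hcard
  let A := Z.filter fun x => x.rep ∈ W
  let B := Z.filter fun x => x.rep ∈ W'
  have h1 : (A ∩ B).card ≤ 1 := Finset.card_le_one.2 fun P hP Q hQ => by
    by_contra hne
    simp only [A, B, Finset.mem_inter, Finset.mem_filter] at hP hQ
    refine hzW ?_
    rw [← eq_of_line W hW hne hP.1.2 hQ.1.2, eq_of_line W' hW' hne hP.2.2 hQ.2.2]
    exact hzW'
  have h2 := Finset.card_union_add_card_inter A B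
  have h3 : (A ∪ B).card ≤ Z.card :=
    Finset.card_le_card (Finset.union_subset (Finset.filter_subset _ _) (Finset.filter_subset _ _))
  have h4 : n + 2 ≤ A.card := hWc
  have h5 : n + 2 ≤ B.card := hW'c
  omega

end GrothLib.CBPts25
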